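import Cfsg.Agent.H161.Rs.G2BoxCore
import Cfsg.Agent.S0000

/-!
# S3691, task SP68-2: `BoxG2` (helper161)
-/

set_option autoImplicit false

namespace Cfsg.Agent.H161.Rs.G2Box

/-- **Subgroups of `G₂(2^f)`, `f ≥ 4`, of order divisible by `r_6` and `r_3`.** -/
theorem boxG2 : H659.Rs.BoxG2 := box_of_known (fun _ _ _ _ => S0000.result)

end Cfsg.Agent.H161.Rs.G2Box
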