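import Cfsg.Agent.H161.Rs.G2Main
import Cfsg.Agent.H983.ElG.KOut
import Cfsg.Agent.OrdDiv.Table

/-!
# S3691, box `BoxG2` (helper161): from the classification
-/

set_option autoImplicit false

namespace Cfsg.Agent.H161.Rs.G2Box

open Cfsg Cfsg.Lie Cfsg.Agent.OrdDiv Cfsg.Agent.H436 Cfsg.Agent.H915.GN

/-- the box, from the names of the simple groups -/
theorem box_of (hnm : ∀ (S : Type) [Group S] [Finite S] [IsSimpleGroup S], ¬ IsMulCommutative S → ∃ g, IsNamed g S) :
    H659.Rs.BoxG2 := by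
  intro S _ _ F _ _ f r s hf hF hS hr hs R hrR hsR
  obtain ⟨e⟩ := hS
  obtain ⟨e'⟩ := H638.G2Iso.equiv (F := F)
  have hT : IsNamed (.g2 (2 ^ f)) ↥(chevG2.group F) := by
    refine Cfsg.Agent.H983.KG2.named_g2 hF ?_ ?_
    · have : 2 ^ 4 ≤ 2 ^ f := Nat.pow_le_pow_right (by norm_num) hf
      omega
    · exact Nat.prime_two.isPrimePow.pow (by omega)
  have hcard : Nat.card (R.map (e.trans e').toMonoidHom) = Nat.card R :=
    (Nat.card_congr (R.equivMapOfInjective _ (e.trans e').injective).toEquiv).symm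
  have h := top_of_two H563.KG.cycFixSolv hnm hf hT (M := R.map (e.trans e').toMonoidHom)
    (r := r) (s := s) (by rw [mul_comm]; exact prim_of_pm (by omega) hr) (by rw [mul_comm]; exact prim_of_pm (by omega) hs)
    (by rw [hcard]; exact hrR) (by rw [hcard]; exact hsR)
  have hidx : (R.map (e.trans e').toMonoidHom).index = R.index := Subgroup.index_map_equiv R (e.trans e')
  rw [← Subgroup.index_eq_one] at h ⊢
  rwa [hidx] at h

/-- **BoxG2** from the classification -/
theorem box_of_known (hK : ∀ (S : Type) [Group S] [Finite S] [IsSimpleGroup S], IsKnownSimple' S) : H659.Rs.BoxG2 :=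
  box_of (fun S _ _ _ hna => H436.exists_named OrdDiv.table (hK S) fun h => hna ⟨⟨h⟩⟩)

end Cfsg.Agent.H161.Rs.G2Box
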