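import Cfsg.Agent.H983.ElG.KSame

/-!
# Subgroups of `G₂(2^f)` with two primitive primes: characteristic two (helper161)

`charp2` : the simple groups of Lie type in characteristic two whose order divides `|G₂(2^f)|`, `f ≥ 4`, and is divisible by
a primitive prime divisor of `2 ^ (6 f) - 1` and one of `2 ^ (3 f) - 1`: `G₂(2^f)`, `L₂(2^(3 f))`, `²F₄(2^(f / 2))`.
-/

set_option autoImplicit false

namespace Cfsg.Agent.H161.Rs.G2Box

open Cfsg.Agent.OrdDiv Cfsg.Agent.H436 Cfsg.Agent.H915.GN Cfsg.Agent.H264.GN Cfsg.Agent.H264.FKS Cfsg.Agent.H325.Same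

variable {f r s c : ℕ} {g : Grp}

/-- **Characteristic two.** -/
theorem charp2 (hf4 : 4 ≤ f) (hg : Cond g) (hch : HasChar 2 g)
    (hc : den g * c = num g) (hdvd : c ∣ num (.g2 (2 ^ f))) (hr : Prim 2 (f * 6) r) (hs : Prim 2 (f * 3) s)
    (hrc : r ∣ c) (hsc : s ∣ c) :
    g = .g2 (2 ^ f) ∨ g = .psl 2 (2 ^ (3 * f)) ∨ ∃ f₁, f = f₁ * 2 ∧ g = .tf4 (2 ^ f₁) := by
  have hp := Nat.prime_two
  have hf : 1 ≤ f := by omega
  obtain ⟨f₁, hf₁, hfl, hK, hY⟩ := kd_all hp hg hch hc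
  have hT := td_g2 hp hf hdvd
  have hM2 := two_le_Mg hg hch
  have hle : f * 6 ≤ f₁ * Mg g := by
    obtain ⟨x, hx, hx2⟩ := hK.exp hr hrc
    have hx3 := hK.le hx
    exact (Nat.le_of_dvd (Nat.mul_pos (by omega) (by omega)) hx2).trans (Nat.mul_le_mul_left _ hx3.2)
  have hfM0 : f₁ * Mg g = f * 6 := by
    obtain ⟨t, ht⟩ := exists_prim (q := 2) (e := f₁ * Mg g) le_rfl (by omega) (by omega)
    obtain ⟨i, hi, hi2⟩ := hT.exp ht (hK.has hY (by omega) ht)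
    have hi3 := hT.le hi
    have h2 : f₁ * Mg g ≤ f * 6 :=
      (Nat.le_of_dvd (Nat.mul_pos (by omega) (by omega)) hi2).trans (Nat.mul_le_mul_left _ hi3.2)
    omega
  obtain ⟨hfM, h2, -, -⟩ := comp hp hf hf₁ hT hK (by omega) (by omega) (fun t h => by
    rw [← hfM0] at h
    exact hK.has hY (by omega) h) hY (by
    intro hp2 h6 h5
    omega)
  have hO := elimT_g2 hg hch (by omega)
  have hq : 2 ≤ 2 ^ f := hp.two_le.trans (Nat.le_self_pow (by omega) _)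
  have b1 : 0 < 2 ^ f - 1 := by omega
  have b2 := sub_pos' (d := 2) hq (by norm_num)
  have b3 := sub_pos' (d := 3) hq (by norm_num)
  have b6 := sub_pos' (d := 6) hq (by norm_num)
  have hd : c ∣ (2 ^ f) ^ 6 * (((2 ^ f) ^ 2 - 1) * ((2 ^ f) ^ 6 - 1)) := hdvd
  have hc0 : 0 < c := pos_of_dvd (by positivity) hd
  obtain ⟨t, ht3⟩ := exists_prim (q := 2 ^ f) (e := 3) hq (by norm_num) (by omega)
  obtain ⟨s4, hs4⟩ := exists_prim (q := 2 ^ f) (e := 4) hq (by norm_num) (by omega)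
  have hn : ¬ s4 ∣ c := fun h => not_dvd_g2 hs4 (Or.inl rfl) (h.trans hdvd)
  cases g
  case psl m q =>
    have hO' : m = 2 ∨ m = 3 := hO
    obtain rfl : q = 2 ^ f₁ := hfl
    rcases hO' with rfl | rfl
    · right; left
      have h5 : f₁ * 2 = f * 6 := hfM
      obtain rfl : f₁ = 3 * f := by omega
      rfl
    · exfalso
      have h5 : f₁ * 3 = f * 6 := hfM
      obtain rfl : f₁ = f * 2 := by omega
      exact hn (mq_dvd' hs4 (by norm_num) (psl_mq le_rfl (hp.two_le.trans (Nat.le_self_pow (by omega) _)) hc))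
  case psp m q =>
    exfalso
    obtain rfl : m = 2 := hO
    obtain rfl : q = 2 ^ f₁ := hfl
    have h5 : f₁ * (2 * 2) = f * 6 := hfM
    have h6 : Nat.gcd 2 (2 ^ f₁ - 1) * c = (2 ^ f₁) ^ (2 ^ 2) * prB (2 ^ f₁) 2 := hc
    have e1 : (2 ^ f₁) ^ 2 = (2 ^ f) ^ 3 := sq_eq (k := 1) (by omega)
    have e2 : (2 ^ f₁) ^ 4 = (2 ^ f) ^ 6 := sq_eq (k := 2) (by omega)
    have h7 : prB (2 ^ f₁) 2 = ((2 ^ f₁) ^ 2 - 1) * ((2 ^ f₁) ^ 4 - 1) := by
      rw [prB_eq, Finset.prod_range_succ, Finset.prod_range_succ, Finset.prod_range_zero]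
      norm_num only [one_mul]
    rw [h7, e1, e2] at h6
    exact cancel_prime ht3.prime b6 hc0 h6 hd (ht3.dvd dvd_rfl) (fun h => ht3.not_dvd_two le_rfl
      (h.trans (Nat.gcd_dvd_left _ _))) (ht3.not_dvd_pow _) (ht3.not_dvd_sub (by norm_num))
  case psu m q =>
    exfalso
    have hO' : m = 3 ∨ m = 4 ∨ m = 5 := hO
    obtain rfl : q = 2 ^ f₁ := hfl
    rcases hO' with rfl | rfl | rfl
    · have h5 : f₁ * 6 = f * 6 := hfM
      obtain rfl : f₁ = f := by omega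
      have h7 : s ∣ num (.psu 3 (2 ^ f₁)) := by
        rw [← hc]
        exact hsc.mul_left _
      exact not_dvd_u (e := 3) (prim_pow hf hs) rfl (by norm_num) (by norm_num) _ h7
    · have h5 : f₁ * 6 = f * 6 := hfM
      obtain rfl : f₁ = f := by omega
      obtain ⟨r, hr⟩ := exists_prim (q := 2) (e := f₁ * 4) hp.two_le (by omega) (by omega)
      have h6 : r ∣ c := hK.has (show 3 ≤ 4 ∧ ((4 ≤ 4 ∧ 4 % 2 = 0) ∨ ∃ j, 4 = 2 * j ∧ j ≤ 4 ∧ j % 2 = 1) from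
        ⟨by norm_num, Or.inl ⟨le_rfl, rfl⟩⟩) (by omega) hr
      exact not_dvd_g2 (prim_pow hf hr) (Or.inl rfl) (h6.trans hdvd)
    · have h5 : f₁ * 10 = f * 6 := hfM
      obtain ⟨k, rfl⟩ : ∃ k, f = 5 * k := ⟨f / 5, by omega⟩
      obtain rfl : f₁ = 3 * k := by omega
      obtain ⟨r, hr⟩ := exists_prim (q := 2) (e := 3 * k * 4) hp.two_le (by omega) (by omega)
      have h6 : r ∣ c := hK.has (show 3 ≤ 4 ∧ ((4 ≤ 5 ∧ 4 % 2 = 0) ∨ ∃ j, 4 = 2 * j ∧ j ≤ 5 ∧ j % 2 = 1) from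
        ⟨by norm_num, Or.inl ⟨by norm_num, rfl⟩⟩) (by omega) hr
      have h7 := Cfsg.Agent.H425.Chr.prim_quot (f := 5 * k) (by omega) hr
      have h8 : 3 * k * 4 / Nat.gcd (3 * k * 4) (5 * k) = 12 := by
        rw [show 3 * k * 4 = 12 * k by ring, Nat.gcd_mul_right, Nat.mul_div_mul_right _ _ (by omega)]
        norm_num
      rw [h8] at h7
      exact not_dvd_g2 h7 (Or.inr rfl) (h6.trans hdvd)
  case g2 q =>
    left
    obtain rfl : q = 2 ^ f₁ := hfl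
    rw [same_fld (M := 6) (by norm_num) hfM]
  case td4 q =>
    exfalso
    obtain rfl : q = 2 ^ f₁ := hfl
    have h5 : f₁ * 12 = f * 6 := hfM
    obtain rfl : f = f₁ * 2 := by omega
    have h6 : 1 * c = (2 ^ f₁) ^ 12 * (((2 ^ f₁) ^ 2 - 1) * ((2 ^ f₁) ^ 6 - 1) * ((2 ^ f₁) ^ 8 + (2 ^ f₁) ^ 4 + 1)) := hc
    have e1 : (2 ^ f₁) ^ 2 = 2 ^ (f₁ * 2) := by rw [pow_mul]
    have e2 : (2 ^ f₁) ^ 6 = (2 ^ (f₁ * 2)) ^ 3 := by rw [← pow_mul, ← pow_mul]; congr 1; ring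
    have e3 : (2 ^ f₁) ^ 8 = (2 ^ (f₁ * 2)) ^ 4 := by rw [← pow_mul, ← pow_mul]; congr 1; ring
    have e4 : (2 ^ f₁) ^ 4 = (2 ^ (f₁ * 2)) ^ 2 := by rw [← pow_mul, ← pow_mul]; congr 1; ring
    rw [e1, e2, e3, e4] at h6
    generalize 2 ^ (f₁ * 2) = Q at *
    have h7 : Q ^ 2 - 1 = (Q + 1) * (Q - 1) := by
      have := Nat.sq_sub_sq Q 1
      rwa [one_pow] at this
    have h8 : Q ^ 6 - 1 = (Q ^ 3 + 1) * (Q ^ 3 - 1) := by
      have := Nat.sq_sub_sq (Q ^ 3) 1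
      rwa [one_pow, ← pow_mul] at this
    have h9 : Q ^ 6 - 1 = (Q ^ 4 + Q ^ 2 + 1) * (Q ^ 2 - 1) := by
      obtain ⟨a, ha⟩ : ∃ a, Q ^ 2 = a + 1 := ⟨Q ^ 2 - 1, by omega⟩
      have h10 : Q ^ 6 = (a + 1) ^ 3 := by rw [← ha]; ring
      have h11 : Q ^ 4 = (a + 1) ^ 2 := by rw [← ha]; ring
      rw [h10, h11, ha, Nat.add_sub_cancel]
      have : (a + 1) ^ 3 = ((a + 1) ^ 2 + (a + 1) + 1) * a + 1 := by ring
      omega
    refine cancel_prime ht3.prime (Z := (Q - 1) * (Q ^ 3 - 1)) (by positivity) hc0 (D := 1)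
      (A := (2 ^ f₁) ^ 12) (x := Q ^ 4 + Q ^ 2 + 1) (B := Q ^ 6) (y := (Q + 1) * (Q ^ 3 + 1)) ?_ ?_ ?_
      (fun h => ?_) (ht3.not_dvd_pow _) (fun h => ?_)
    · rw [h6]; ring
    · refine hd.trans (dvd_of_eq ?_)
      rw [h7, h8]; ring
    · have h12 : t ∣ Q ^ 6 - 1 := ht3.dvd (by norm_num)
      rw [h9] at h12
      exact (ht3.prime.dvd_mul.1 h12).resolve_right (ht3.not_dvd_sub (by norm_num))
    · exact ht3.prime.one_lt.ne' (Nat.dvd_one.1 h)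
    · rcases ht3.prime.dvd_mul.1 h with h | h
      · exact ht3.not_dvd_qadd le_rfl h
      · exact not_dvd_add_odd ht3 rfl (by norm_num) 3 h
  case tf4 q =>
    right; right
    obtain rfl : q = 2 ^ f₁ := hfl
    have h5 : f₁ * 12 = f * 6 := hfM
    exact ⟨f₁, by omega, rfl⟩
  case sz q =>
    exfalso
    obtain rfl : q = 2 ^ f₁ := hfl
    have h5 : f₁ * 4 = f * 6 := hfM
    obtain ⟨k, rfl⟩ : ∃ k, f = 2 * k := ⟨f / 2, by omega⟩
    obtain rfl : f₁ = 3 * k := by omega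
    have h7 : 1 * c = (2 ^ (3 * k)) ^ 2 * ((2 ^ (3 * k) - 1) * ((2 ^ (3 * k)) ^ 2 + 1)) := hc
    rw [one_mul] at h7
    have h6 := hsc
    rw [h7] at h6
    have h8 : Prim (2 ^ (3 * k)) 2 s := by
      have hs' := hs
      rw [show 2 * k * 3 = 3 * k * 2 by ring] at hs'
      exact prim_pow hf₁ hs'
    rcases hs.prime.dvd_mul.1 h6 with h9 | h9
    · exact h8.not_dvd_pow _ h9
    · rcases hs.prime.dvd_mul.1 h9 with h9 | h9
      · rw [← pow_one (2 ^ (3 * k)), h8.dvd_iff] at h9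
        exact absurd h9 (by norm_num)
      · have h10 : s ∣ (2 ^ (3 * k)) ^ 2 - 1 := h8.dvd dvd_rfl
        have h11 := Nat.dvd_sub h9 h10
        have h12 : 1 ≤ (2 ^ (3 * k)) ^ 2 := Nat.one_le_pow _ _ (by positivity)
        rw [show (2 ^ (3 * k)) ^ 2 + 1 - ((2 ^ (3 * k)) ^ 2 - 1) = 2 by omega] at h11
        exact hs.not_dvd h11
  case ree q =>
    exfalso
    obtain rfl : q = 2 ^ f₁ := hfl
    obtain ⟨m, hm, hqm⟩ : ∃ m, 1 ≤ m ∧ 2 ^ f₁ = 3 ^ (2 * m + 1) := hg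
    have h4 : 2 ∣ 3 ^ (2 * m + 1) := by
      rw [← hqm]
      exact dvd_pow_self 2 (by omega)
    have := hp.dvd_of_dvd_pow h4
    omega
  all_goals exact absurd hO not_false

end Cfsg.Agent.H161.Rs.G2Box
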