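import Cfsg.Agent.H983.ElG.KNum
import Cfsg.Agent.H659.Rs.Box

/-!
# Subgroups of `G₂(2^f)` with two primitive primes: numbers (helper161)

`r` a primitive prime divisor of `2 ^ (6 f) - 1`, `s` of `2 ^ (3 f) - 1`, `f ≥ 4`.
* `no_cross2` : Lie type in odd characteristic (dimension at most 14);
* `no_spor2` : sporadic groups;
-/

set_option autoImplicit false
set_option exponentiation.threshold 700

namespace Cfsg.Agent.H161.Rs.G2Box

open Cfsg.Agent.H983.KG2
open Cfsg.Agent.H902 Cfsg.Agent.H290.ElReg Cfsg.Agent.H290.ElTab Cfsg.Agent.H290.ElCross Cfsg.Agent.H563.KG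
open Cfsg.Agent.H946.Num Cfsg.Agent.H946.Rad
open Cfsg.Agent.H436 (Prim exists_prim)

variable {f r s : ℕ}

theorem prim_of_pm {n : ℕ} (hn : 1 ≤ n) (h : H659.Rs.Pm n r) : Prim 2 n r := by
  have := Fact.mk h.prime
  refine ⟨h.prime, fun m => ?_, fun hd => ?_⟩
  · rw [← h.ord, orderOf_dvd_iff_pow_eq_one, ← Nat.cast_pow, ← Nat.cast_one (R := ZMod r),
      ← sub_eq_zero, ← Nat.cast_sub (Nat.one_le_pow _ _ (by norm_num)), ZMod.natCast_eq_zero_iff]
  · have h2 : r = 2 := (Nat.prime_dvd_prime_iff_eq h.prime Nat.prime_two).1 hd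
    have h3 := h.ord
    subst h2
    have h4 : ((2 : ℕ) : ZMod 2) = 0 := CharP.cast_eq_zero (ZMod 2) 2
    rw [h4, orderOf_eq_zero_iff'.2 (fun k hk h5 => by
      rw [zero_pow (by omega)] at h5
      exact zero_ne_one h5)] at h3
    omega

/-- **Odd characteristic.** -/
theorem no_cross2 {X : Art.Sh} {l a N : ℕ} (hR : Art.Real X l a N) (hlb : lb X (l ^ a) ≤ 14) (hf : 4 ≤ f)
    (hr : Prim 2 (f * 6) r) (hrN : r ∣ N) : False := by
  obtain ⟨hl, ha, hokX, heq⟩ := hR
  have hreg := mem_reg (by norm_num) hl ha hokX hlb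
  have hs' : smooth (NA X l a) = true :=
    List.all_eq_true.1 smooth_reg (X, (l, a)) (mem_reg le_rfl hl ha hokX (hlb.trans (by norm_num)))
  have hsS : smooth (NS X l a) = true := by
    have h1 : NS X l a ∣ NA X l a := Dvd.intro_left _ rfl
    have h2 : NA X l a ∣ prs.prod ^ 100 := Nat.dvd_of_mod_eq_zero (by simpa [smooth] using hs')
    simpa [smooth] using Nat.mod_eq_zero_of_dvd (h1.trans h2)
  have hM : OL X (l ^ a) = Art.dd X (l ^ a) * N := by unfold OL; rw [numL_eq]; exact heq.symm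
  have hNM : N ∣ OL X (l ^ a) := Dvd.intro_left _ hM.symm
  have hNS : ∀ r, r.Prime → r ∣ OL X (l ^ a) → r ∣ NS X l a := by
    intro r hr h
    unfold NS
    have h1 : r ∣ (l ^ a) ^ Art.NN X * numL X (l ^ a) := h
    rcases hr.dvd_mul.1 h1 with h2 | h2
    · exact (hr.dvd_of_dvd_pow (hr.dvd_of_dvd_pow h2)).mul_right _
    · exact h2.mul_left _
  have hb' := List.all_eq_true.1 bnd14_true (X, (l, a)) hreg
  simp only [Bool.and_eq_true, Nat.ble_eq, Nat.blt_eq, List.all_eq_true] at hb'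
  obtain ⟨-, -, hb3⟩ := hb'
  have h1 := hb3 r (mem_pd hsS hr.prime (hNS r hr.prime (hrN.trans hNM)))
  have h2 := mod_of_prim (q := 2) (by norm_num) (by omega) hr
  have h3 := Cfsg.Agent.H899.CG.prim_lt (by norm_num) hr
  have h4 : f * 6 ∣ r - 1 := Nat.dvd_of_mod_eq_zero h2
  have h5 := Nat.le_of_dvd (by omega) h4
  have h6 : f = 4 := by omega
  subst h6
  have h7 : r = 25 := by omega
  subst h7
  exact absurd hr.prime (by norm_num)

def sv2 : Bool := Cfsg.Agent.OrdDiv.spor.all fun x => (pd x.2).all fun r => (pd x.2).all fun s => (List.range 12).all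
  fun f => Nat.blt f 4 || (r == s || (!((r - 1) % (f * 6) == 0) || (!((s - 1) % (f * 3) == 0) || 2 ^ (f * 3) % r == 1)))

theorem sv2_true : sv2 = true := by decide +kernel

/-- **Sporadic groups.** -/
theorem no_spor2 {x : Cfsg.Agent.OrdDiv.Grp × ℕ} (hx : x ∈ Cfsg.Agent.OrdDiv.spor) (hf : 4 ≤ f)
    (hr : Prim 2 (f * 6) r) (hs : Prim 2 (f * 3) s) (hrN : r ∣ x.2) (hsN : s ∣ x.2) : False := by
  have hs' : smooth x.2 = true := List.all_eq_true.1 smooth_spor x hx
  have hb' := List.all_eq_true.1 bndSp_true x hx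
  simp only [Bool.and_eq_true, Nat.ble_eq, Nat.blt_eq, List.all_eq_true] at hb'
  obtain ⟨-, -, hb3⟩ := hb'
  have h1 := mem_pd hs' hr.prime hrN
  have h2 := mem_pd hs' hs.prime hsN
  have h3 := hb3 r h1
  have hne : r ≠ s := by
    rintro rfl
    have := hr.unique hs
    omega
  have hm := mod_of_prim (q := 2) (by norm_num) (by omega) hr
  have hms := mod_of_prim (q := 2) (by norm_num) (by omega) hs
  have hlt := Cfsg.Agent.H899.CG.prim_lt (by norm_num) hr
  have hnd : 2 ^ (f * 3) % r ≠ 1 := by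
    intro h
    have h4 : r ∣ 2 ^ (f * 3) - 1 := (Nat.modEq_iff_dvd' (Nat.one_le_pow _ _ (by norm_num))).1
      (by unfold Nat.ModEq; rw [h, Nat.mod_eq_of_lt hr.prime.one_lt])
    have h5 := Nat.le_of_dvd (by omega) ((hr.dvd_iff _).1 h4)
    omega
  have h4 := List.all_eq_true.1 (List.all_eq_true.1 (List.all_eq_true.1 (List.all_eq_true.1 sv2_true x hx) r h1) s h2)
    f (List.mem_range.2 (by omega))
  have h5 : ¬ f < 4 := by omega
  simp [hm, hms, hne, h5, hnd] at h4

end Cfsg.Agent.H161.Rs.G2Box
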